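import Groth.Agent.MTTorus.Basic
import Groth.Agent.MTQuot.Core
import Groth.Agent.Chev.CharQuot
import Groth.Agent.MTBridge.Subgroups
import Groth.Agent.MTBridge.MonoTori

/-!
# A torus commuting with a torus and contained in it on fibres is contained in it

No separation hypothesis on the ambient group and no centrality: the fibre map between the tori extends on a chart
splitting both, and the difference of the two homomorphisms is trivial on the fibre, hence nearby.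
-/

set_option autoImplicit false
set_option linter.style.haveILetI false
set_option backward.isDefEq.respectTransparency false
set_option maxHeartbeats 1000000
set_option synthInstance.maxHeartbeats 400000

universe u

noncomputable section

open CategoryTheory Limits MonoidalCategory CartesianMonoidalCategory MonObj GrpObj AlgebraicGeometry WithConv
open scoped CategoryTheory.Obj
open Groth.Agent.MTBridge Groth.Agent.HomDiag Groth.Agent.MTQuot

namespace Groth.Agent.MTTorus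

variable {S : Scheme.{u}}

/-- Maps of diagonalisable groups commute with base change. -/
theorem DSmap_bc {U : Scheme.{u}} (j : U ⟶ S) {M N : Type} [AddCommGroup M] [AddCommGroup N] (θ : N →+ M) :
    (Over.pullback j).map (Red.DSmap S θ) ≫ (bcDS j N).hom.hom.hom =
      (bcDS j M).hom.hom.hom ≫ Red.DSmap U θ := by
  apply ch_ext
  intro m
  obtain ⟨a, ha⟩ := exists_toBC' j (𝟙 (Red.bc j (Red.DS S M)))
  calc ch ((Over.pullback j).map (Red.DSmap S θ) ≫ (bcDS j N).hom.hom.hom) m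
      = ch (toBC j (a ≫ Red.DSmap S θ) ≫ (bcDS j N).hom.hom.hom) m := by
        rw [toBC_comp, ha, Category.id_comp]
    _ = ch a (Multiplicative.ofAdd (θ m.toAdd)) := by rw [ch_toBC_bcDS, ch_DSmap]
    _ = ch (toBC j a ≫ (bcDS j M).hom.hom.hom) (Multiplicative.ofAdd (θ m.toAdd)) := by rw [ch_toBC_bcDS]
    _ = _ := by rw [ha, Category.id_comp, ch_DSmap]

theorem isMultTypeFT_DS (S : Scheme.{u}) (M : Type) [AddCommGroup M] [AddGroup.FG M] :
    SGA3x.IsMultTypeFT (Red.DS S M) :=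
  ⟨S, 𝟙 S, inferInstance, inferInstance,
    fun V hV => ⟨V, hV.isCompact, Set.image_id _⟩,
    fun _ => ⟨⊤, trivial, M, inferInstance, inferInstance, ⟨bcDS _ M⟩⟩⟩

theorem isMultTypeFT_of_iso_DS {R : Over S} [GrpObj R] {M : Type} [AddCommGroup M] [AddGroup.FG M]
    (e : Grp.mk R ≅ Grp.mk (Red.DS S M)) : SGA3x.IsMultTypeFT R :=
  ⟨S, 𝟙 S, inferInstance, inferInstance,
    fun V hV => ⟨V, hV.isCompact, Set.image_id _⟩,
    fun _ => ⟨⊤, trivial, M, inferInstance, inferInstance, ⟨bcMapIso _ e ≪≫ bcDS _ M⟩⟩⟩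

/-- A group isomorphic to a diagonalisable group is commutative on points. -/
theorem mul_comm_of_iso_DS {R : Over S} [GrpObj R] {M : Type} [AddCommGroup M]
    (e : Grp.mk R ≅ Grp.mk (Red.DS S M)) {X : Over S} (u v : X ⟶ R) : u * v = v * u := by
  haveI : IsMonHom e.hom.hom.hom := e.hom.hom.isMonHom_hom
  haveI : IsIso e.hom.hom.hom := ((Grp.forget _).mapIso e).isIso_hom
  rw [← cancel_mono e.hom.hom.hom, MonObj.mul_comp, MonObj.mul_comp]
  exact ch_ext fun m => by rw [ch_mul, ch_mul, mul_comm]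

/-- A multiplicative map is a homomorphism. -/
theorem isMonHom_of_mul {A B : Over S} [GrpObj A] [GrpObj B] (f : A ⟶ B)
    (hmul : ∀ {X : Over S} (u v : X ⟶ A), (u * v) ≫ f = (u ≫ f) * (v ≫ f)) : IsMonHom f := by
  refine ⟨?_, ?_⟩
  · have h1 := hmul (1 : 𝟙_ (Over S) ⟶ A) 1
    rw [_root_.mul_one, left_eq_mul] at h1
    rw [show (η[A] : 𝟙_ _ ⟶ A) = 1 by rw [Hom.one_def, toUnit_unit, Category.id_comp], h1, Hom.one_def, toUnit_unit,
      Category.id_comp]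
  · have e1 : μ[A] = fst A A * snd A A := by rw [Hom.mul_def, lift_fst_snd, Category.id_comp]
    rw [e1, hmul, Hom.mul_def]
    congr 1

/-- The quotient of two commuting homomorphisms is a homomorphism. -/
theorem isMonHom_mul_inv {A G : Over S} [GrpObj A] [GrpObj G] (f g : A ⟶ G) [IsMonHom f] [IsMonHom g]
    (hA : ∀ {X : Over S} (u v : X ⟶ A), u * v = v * u)
    (hc : ∀ {X : Over S} (u v : X ⟶ A), (u ≫ f) * (v ≫ g) = (v ≫ g) * (u ≫ f)) : IsMonHom (f * g⁻¹) := by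
  refine isMonHom_of_mul _ fun {X} u v => ?_
  simp only [MonObj.comp_mul, GrpObj.comp_inv, MonObj.mul_comp, _root_.mul_inv_rev]
  have h1 : Commute ((v ≫ g)⁻¹ : X ⟶ G) (u ≫ f) := (show Commute (v ≫ g) (u ≫ f) from (hc u v).symm).inv_left
  have h2 : Commute ((u ≫ g)⁻¹ : X ⟶ G) (v ≫ f) := (show Commute (u ≫ g) (v ≫ f) from (hc v u).symm).inv_left
  have h3 : Commute (v ≫ g) (u ≫ g) := by
    have h4 : (v * u) = (u * v) → (v ≫ g) * (u ≫ g) = (u ≫ g) * (v ≫ g) := fun h => by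
      rw [← MonObj.mul_comp, ← MonObj.mul_comp, h]
    refine h4 ?_
    exact hA v u
  calc (u ≫ f) * (v ≫ f) * ((v ≫ g)⁻¹ * (u ≫ g)⁻¹)
      = (u ≫ f) * (v ≫ f) * ((u ≫ g)⁻¹ * (v ≫ g)⁻¹) := by rw [(h3.inv_inv).eq]
    _ = (u ≫ f) * ((v ≫ f) * (u ≫ g)⁻¹) * (v ≫ g)⁻¹ := by simp only [_root_.mul_assoc]
    _ = (u ≫ f) * ((u ≫ g)⁻¹ * (v ≫ f)) * (v ≫ g)⁻¹ := by rw [h2.eq]
    _ = (u ≫ f) * (u ≫ g)⁻¹ * ((v ≫ f) * (v ≫ g)⁻¹) := by simp only [_root_.mul_assoc]

/-- The local statement on a chart splitting both tori. -/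
theorem exists_nhd_factor {U : Scheme.{u}} {G T R : Over U} [GrpObj G] [GrpObj T] [GrpObj R]
    [LocallyOfFiniteType G.hom] {r q : ℕ} (eR : Grp.mk R ≅ Grp.mk (Red.DS U (Fin r → ℤ)))
    (eT : Grp.mk T ≅ Grp.mk (Red.DS U (Fin q → ℤ))) (i : T ⟶ G) [IsMonHom i] [Mono i] (j : R ⟶ G) [IsMonHom j]
    (hcomm : ∀ (X : Over U) (t : X ⟶ T) (x : X ⟶ R), (t ≫ i) * (x ≫ j) = (x ≫ j) * (t ≫ i))
    (t : U) (ψ : Red.bc (U.fromSpecResidueField t) R ⟶ Red.bc (U.fromSpecResidueField t) T)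
    (hψ : ψ ≫ (Over.pullback (U.fromSpecResidueField t)).map i = (Over.pullback (U.fromSpecResidueField t)).map j) :
    ∃ W : U.Opens, t ∈ W ∧ ∀ (Y : Over U), Set.range Y.hom ⊆ (W : Set U) → ∀ p : Y ⟶ R,
      ∃ z : Y ⟶ T, z ≫ i = p ≫ j := by
  let κ := U.fromSpecResidueField t
  let F := Over.pullback κ
  haveI : PreservesLimitsOfShape WalkingCospan F :=
    (Adjunction.rightAdjoint_preservesLimits (Over.mapPullbackAdj κ)).preservesLimitsOfShape
  haveI : Mono (F.map i) := inferInstance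
  haveI : IsMonHom ψ := MTSplit.isMonHom_of_comp_mono ψ (F.map i) (F.map j) hψ
  haveI : IsMonHom eR.hom.hom.hom := eR.hom.hom.isMonHom_hom
  haveI : IsMonHom eR.inv.hom.hom := eR.inv.hom.isMonHom_hom
  haveI : IsMonHom eT.hom.hom.hom := eT.hom.hom.isMonHom_hom
  haveI : IsMonHom eT.inv.hom.hom := eT.inv.hom.isMonHom_hom
  haveI : IsMonHom (bcDS κ (Fin r → ℤ)).inv.hom.hom := (bcDS κ (Fin r → ℤ)).inv.hom.isMonHom_hom
  haveI : IsMonHom (bcDS κ (Fin q → ℤ)).hom.hom.hom := (bcDS κ (Fin q → ℤ)).hom.hom.isMonHom_hom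
  let χ : Red.DS (Spec (U.residueField t)) (Fin r → ℤ) ⟶ Red.DS (Spec (U.residueField t)) (Fin q → ℤ) :=
    (bcDS κ (Fin r → ℤ)).inv.hom.hom ≫ F.map eR.inv.hom.hom ≫ ψ ≫ F.map eT.hom.hom.hom ≫
      (bcDS κ (Fin q → ℤ)).hom.hom.hom
  haveI : IsMonHom χ := inferInstanceAs (IsMonHom (_ ≫ _ ≫ _ ≫ _ ≫ _))
  obtain ⟨θ, hθ⟩ := Chev.CharQuot.exists_DSmap (k := U.residueField t) χ
  let y : R ⟶ T := eR.hom.hom.hom ≫ Red.DSmap U θ ≫ eT.inv.hom.hom
  haveI : IsMonHom y := inferInstanceAs (IsMonHom (_ ≫ _ ≫ _))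
  have hR : eR.hom.hom.hom ≫ eR.inv.hom.hom = 𝟙 _ := ((Grp.forget _).mapIso eR).hom_inv_id
  have hT : eT.hom.hom.hom ≫ eT.inv.hom.hom = 𝟙 _ := ((Grp.forget _).mapIso eT).hom_inv_id
  have hD : (bcDS κ (Fin r → ℤ)).hom.hom.hom ≫ (bcDS κ (Fin r → ℤ)).inv.hom.hom = 𝟙 _ :=
    ((Grp.forget _).mapIso (bcDS κ (Fin r → ℤ))).hom_inv_id
  haveI : IsIso (bcDS κ (Fin q → ℤ)).hom.hom.hom := ((Grp.forget _).mapIso (bcDS κ (Fin q → ℤ))).isIso_hom
  haveI : IsIso eT.hom.hom.hom := ((Grp.forget _).mapIso eT).isIso_hom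
  have hyψ : F.map y = ψ := by
    have h1 : F.map (Red.DSmap U θ) = F.map eR.inv.hom.hom ≫ ψ ≫ F.map eT.hom.hom.hom := by
      rw [← cancel_mono (bcDS κ (Fin q → ℤ)).hom.hom.hom, DSmap_bc κ θ,
        show Red.DSmap (Spec (U.residueField t)) θ = χ from hθ.symm]
      simp only [χ, Category.assoc, reassoc_of% hD]
    simp only [y, Functor.map_comp, h1, Category.assoc]
    rw [← F.map_comp_assoc, hR, F.map_id, Category.id_comp, ← F.map_comp, hT, F.map_id, Category.comp_id]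
  let d : R ⟶ G := (y ≫ i) * j⁻¹
  haveI : IsMonHom d := isMonHom_mul_inv (y ≫ i) j (fun u v => mul_comm_of_iso_DS eR u v) fun u v => by
    rw [← Category.assoc]
    exact hcomm _ (u ≫ y) v
  have hd : F.map d = 1 := by
    have h2 : d * j = y ≫ i := inv_mul_cancel_right _ _
    have h3 := congrArg F.map h2
    rw [Functor.map_mul, Functor.map_comp, hyψ, hψ, mul_eq_right] at h3
    exact h3
  let E := Red.DS U PUnit
  let u : E ⟶ G := 1
  haveI : IsMonHom u := isMonHom_of_mul _ fun a b => by simp [u]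
  haveI hE : IsIso (toUnit E) := ⟨1, ch_ext fun m => by
    rw [show m = 1 from Subsingleton.elim _ _, map_one, map_one], toUnit_unique _ _⟩
  haveI : IsImmersion u.left := by
    haveI : IsIso (toUnit E).left := ((Over.forget _).mapIso (asIso (toUnit E))).isIso_hom
    haveI : IsImmersion (η[G].left ≫ G.hom) := by
      rw [Over.w (η[G] : 𝟙_ _ ⟶ G)]
      exact inferInstanceAs (IsImmersion (𝟙 U))
    haveI : IsImmersion η[G].left := IsImmersion.of_comp η[G].left G.hom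
    show IsImmersion ((toUnit E).left ≫ η[G].left)
    infer_instance
  haveI : AddGroup.FG PUnit.{1} := AddGroup.fg_of_finite
  obtain ⟨W, htW, hW⟩ := exists_incl_nhd (H₁ := R) (H₂ := E) (Or.inr inferInstance)
    (isMultTypeFT_of_iso_DS eR) (isMultTypeFT_DS U PUnit) d u t
    (fun X g h => by
      rw [show (Over.pullback (U.fromSpecResidueField t)).map d = 1 from hd, MonObj.comp_one, _root_.mul_one,
        _root_.one_mul]) 1 (by
      rw [show (Over.pullback (U.fromSpecResidueField t)).map d = 1 from hd, MonObj.one_comp])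
  refine ⟨W, htW, fun Y hY p => ⟨p ≫ y, ?_⟩⟩
  obtain ⟨z, hz⟩ := hW Y hY p
  rw [show z ≫ u = 1 from MonObj.comp_one z] at hz
  have h4 : (p ≫ y ≫ i) * (p ≫ j)⁻¹ = 1 := by
    rw [hz]
    simp only [d, MonObj.comp_mul, GrpObj.comp_inv]
  rw [Category.assoc]
  exact mul_inv_eq_one.1 h4

/-- Fibre factorisations pass to a field extension of the fibre. -/
theorem exists_fibre_factor {G T R : Over S} (i : T ⟶ G) (j : R ⟶ G) {V : Scheme.{u}} (g : V ⟶ S) (t : V)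
    (ψ : Red.bc (S.fromSpecResidueField (g t)) R ⟶ Red.bc (S.fromSpecResidueField (g t)) T)
    (hψ : ψ ≫ (Over.pullback (S.fromSpecResidueField (g t))).map i =
      (Over.pullback (S.fromSpecResidueField (g t))).map j) :
    ∃ ψ' : Red.bc (V.fromSpecResidueField t) (Red.bc g R) ⟶ Red.bc (V.fromSpecResidueField t) (Red.bc g T),
      ψ' ≫ (Over.pullback (V.fromSpecResidueField t)).map ((Over.pullback g).map i) =
        (Over.pullback (V.fromSpecResidueField t)).map ((Over.pullback g).map j) := by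
  let κ := V.fromSpecResidueField t
  let φ := S.fromSpecResidueField (g t)
  let w := Spec.map (g.residueFieldMap t)
  let X := Red.bc κ (Red.bc g R)
  obtain ⟨p₁, hp₁⟩ := exists_toBC' κ (𝟙 X)
  obtain ⟨p₀, hp₀⟩ := exists_toBC' g p₁
  let e : (Over.map g).obj ((Over.map κ).obj X) ≅ (Over.map φ).obj ((Over.map w).obj X) :=
    Over.isoMk (Iso.refl _) (by
      show 𝟙 _ ≫ (X.hom ≫ w) ≫ φ = (X.hom ≫ κ) ≫ g
      rw [Category.id_comp, Category.assoc, Category.assoc, Scheme.Hom.SpecMap_residueFieldMap_fromSpecResidueField])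
  obtain ⟨q, hq⟩ := exists_toBC' φ (toBC φ (e.inv ≫ p₀) ≫ ψ)
  have h : q ≫ i = (e.inv ≫ p₀) ≫ j :=
    MTBridge.toBC_inj φ (by rw [toBC_comp, hq, Category.assoc, hψ, ← toBC_comp])
  refine ⟨toBC κ (toBC g (e.hom ≫ q)), ?_⟩
  rw [← toBC_comp, ← toBC_comp, Category.assoc, h, Category.assoc, e.hom_inv_id_assoc, toBC_comp, toBC_comp, hp₀,
    hp₁, Category.id_comp]

/-- **A torus commuting with a torus and contained in it on every fibre is contained in it.** -/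
theorem exists_factor_of_commute_fibres {G T R : Over S} [GrpObj G] [GrpObj T] [GrpObj R]
    [LocallyOfFiniteType G.hom] (hT : Red.IsTorus T) (hR : Red.IsTorus R) (i : T ⟶ G) [IsMonHom i] [Mono i]
    (j : R ⟶ G) [IsMonHom j]
    (hcomm : ∀ (X : Over S) (t : X ⟶ T) (x : X ⟶ R), (t ≫ i) * (x ≫ j) = (x ≫ j) * (t ≫ i))
    (hfib : ∀ s : S, ∃ ψ : Red.bc (S.fromSpecResidueField s) R ⟶ Red.bc (S.fromSpecResidueField s) T,
      ψ ≫ (Over.pullback (S.fromSpecResidueField s)).map i = (Over.pullback (S.fromSpecResidueField s)).map j) :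
    ∃ y : R ⟶ T, y ≫ i = j := by
  obtain ⟨S₁, f₁, hf₁, hfs₁, hlift₁, hloc₁⟩ := hR
  obtain ⟨S₂, f₂, hf₂, hfs₂, hlift₂, hloc₂⟩ := hT
  have hc₁ : CoverMap.Covers f₁ := CoverMap.covers_of_hcov ⟨S₁, f₁, 𝟙 _, Category.id_comp _, hfs₁, hf₁, hlift₁⟩
  have hc₂ : CoverMap.Covers f₂ := CoverMap.covers_of_hcov ⟨S₂, f₂, 𝟙 _, Category.id_comp _, hfs₂, hf₂, hlift₂⟩
  let f := pullback.fst f₁ f₂ ≫ f₁
  have hcov : CoverMap.Covers f := hc₁.comp (hc₂.of_isPullback (IsPullback.of_hasPullback f₁ f₂))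
  let R' : Over S := Over.mk (pullback.fst R.hom f ≫ R.hom)
  let pr : R' ⟶ R := Over.homMk (pullback.fst R.hom f) rfl
  have hpr : CoverMap.Covers pr.left := hcov.of_isPullback (IsPullback.of_hasPullback R.hom f)
  suffices h : ∃ y : R' ⟶ T, y ≫ i = pr ≫ j by
    obtain ⟨y, hy⟩ := h
    obtain ⟨y₀, hy₀, -⟩ := CoverMap.existsUnique_fac hpr y fun W a b hab => by
      rw [← cancel_mono i, Category.assoc, Category.assoc, hy, reassoc_of% hab]
    haveI := CoverMap.epi_over hpr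
    exact ⟨y₀, by rw [← cancel_epi pr, reassoc_of% hy₀, hy]⟩
  refine factor_local i _ fun p => ?_
  let t := pullback.snd R.hom f p
  obtain ⟨U₁, hU₁, r, ⟨e₁⟩⟩ := hloc₁ (pullback.fst f₁ f₂ t)
  obtain ⟨U₂, hU₂, q, ⟨e₂⟩⟩ := hloc₂ (pullback.snd f₁ f₂ t)
  let V : (pullback f₁ f₂).Opens := pullback.fst f₁ f₂ ⁻¹ᵁ U₁ ⊓ pullback.snd f₁ f₂ ⁻¹ᵁ U₂
  let g : (V : Scheme.{u}) ⟶ S := V.ι ≫ f
  let a₁ : (V : Scheme.{u}) ⟶ (U₁ : Scheme.{u}) := IsOpenImmersion.lift U₁.ι (V.ι ≫ pullback.fst f₁ f₂) (by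
    rw [Scheme.Opens.range_ι]
    rintro _ ⟨y, rfl⟩
    exact y.2.1)
  let a₂ : (V : Scheme.{u}) ⟶ (U₂ : Scheme.{u}) := IsOpenImmersion.lift U₂.ι (V.ι ≫ pullback.snd f₁ f₂) (by
    rw [Scheme.Opens.range_ι]
    rintro _ ⟨y, rfl⟩
    exact y.2.2)
  have ha₁ : a₁ ≫ U₁.ι ≫ f₁ = g := by
    rw [IsOpenImmersion.lift_fac_assoc, Category.assoc]
  have ha₂ : a₂ ≫ U₂.ι ≫ f₂ = g := by
    rw [IsOpenImmersion.lift_fac_assoc, Category.assoc, ← pullback.condition]
  obtain ⟨eR⟩ : Nonempty (Grp.mk (Red.bc g R) ≅ Grp.mk (Red.DS V (Fin r → ℤ))) := by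
    rw [← ha₁]
    exact nonempty_bc_split ⟨e₁⟩ a₁
  obtain ⟨eT⟩ : Nonempty (Grp.mk (Red.bc g T) ≅ Grp.mk (Red.DS V (Fin q → ℤ))) := by
    rw [← ha₂]
    exact nonempty_bc_split ⟨e₂⟩ a₂
  haveI : PreservesLimitsOfShape WalkingCospan (Over.pullback g) :=
    (Adjunction.rightAdjoint_preservesLimits (Over.mapPullbackAdj g)).preservesLimitsOfShape
  haveI : LocallyOfFiniteType (Red.bc g G).hom := by
    show LocallyOfFiniteType (pullback.snd G.hom g)
    infer_instance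
  let tV : (V : Scheme.{u}) := ⟨t, hU₁, hU₂⟩
  obtain ⟨ψ, hψ⟩ := hfib (g tV)
  obtain ⟨ψ', hψ'⟩ := exists_fibre_factor i j g tV ψ hψ
  obtain ⟨W, htW, hW⟩ := exists_nhd_factor eR eT ((Over.pullback g).map i) ((Over.pullback g).map j)
    (fun X a b => by
      obtain ⟨a', rfl⟩ := exists_toBC' g a
      obtain ⟨b', rfl⟩ := exists_toBC' g b
      rw [← toBC_comp, ← toBC_comp, ← toBC_mul, ← toBC_mul, hcomm]) tV ψ' hψ'
  let O : R'.left.Opens := pullback.snd R.hom f ⁻¹ᵁ (V.ι ''ᵁ W)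
  refine ⟨O, ⟨tV, htW, rfl⟩, ?_⟩
  let Z : Over S := Over.mk (O.ι ≫ R'.hom)
  let l : Z.left ⟶ (V : Scheme.{u}) := IsOpenImmersion.lift V.ι (O.ι ≫ pullback.snd R.hom f) (by
    rw [Scheme.Opens.range_ι]
    rintro _ ⟨z, rfl⟩
    obtain ⟨w, -, hw⟩ := z.2
    exact hw ▸ (show (V.ι w) ∈ V from w.2))
  have hlW : Set.range l ⊆ (W : Set (V : Scheme.{u})) := by
    rintro _ ⟨z, rfl⟩
    obtain ⟨w, hw, hwe⟩ := z.2
    have h1 : V.ι (l z) = V.ι w := by
      rw [← Scheme.Hom.comp_apply, IsOpenImmersion.lift_fac]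
      exact hwe.symm
    rw [V.ι.isOpenEmbedding.injective h1]
    exact hw
  have hl : l ≫ g = Z.hom := by
    show l ≫ V.ι ≫ f = O.ι ≫ pullback.fst R.hom f ≫ R.hom
    rw [IsOpenImmersion.lift_fac_assoc, Category.assoc, pullback.condition]
  let iz : (Over.map g).obj (Over.mk l) ≅ Z := Over.isoMk (Iso.refl _) (by simp [hl])
  let x : Z ⟶ R := Over.homMk (U := Z) (V := R') O.ι rfl ≫ pr
  obtain ⟨z, hz⟩ := hW (Over.mk l) hlW (toBC g (iz.hom ≫ x))
  obtain ⟨a, rfl⟩ := exists_toBC' g z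
  rw [← toBC_comp, ← toBC_comp] at hz
  have h := MTBridge.toBC_inj g hz
  refine ⟨iz.inv ≫ a, ?_⟩
  rw [Category.assoc, h, Category.assoc, iz.inv_hom_id_assoc]
  simp only [x, Category.assoc]

end Groth.Agent.MTTorus
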