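import Groth.Agent.MTSplit.Irreducible

/-!
# The maximal torus of a group of multiplicative type
-/

set_option autoImplicit false
set_option linter.style.haveILetI false
set_option backward.isDefEq.respectTransparency false
set_option maxHeartbeats 1000000
set_option synthInstance.maxHeartbeats 400000

universe u

noncomputable section

open CategoryTheory Limits MonoidalCategory CartesianMonoidalCategory MonObj GrpObj AlgebraicGeometry WithConv
open scoped CategoryTheory.Obj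

namespace Groth.Agent.MTTorus

open Groth.Agent.MTBridge Groth.Agent.HomDiag Groth.Agent.MTQuot Groth.Agent.MTSplit

variable {S : Scheme.{u}}

theorem comp_pow_hom {X A B : Over S} [GrpObj A] [GrpObj B] (f : A ⟶ B) [IsMonHom f] (x : X ⟶ A) (n : ℕ) :
    (x ^ n) ≫ f = (x ≫ f) ^ n := by
  induction n with
  | zero => rw [pow_zero, pow_zero, MonObj.one_comp]
  | succ n ih => rw [pow_succ, pow_succ, MonObj.mul_comp, ih]

theorem comp_pow_pre {X Y A : Over S} [GrpObj A] (a : Y ⟶ X) (x : X ⟶ A) (n : ℕ) :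
    a ≫ (x ^ n) = (a ≫ x) ^ n := by
  induction n with
  | zero => rw [pow_zero, pow_zero, MonObj.comp_one]
  | succ n ih => rw [pow_succ, pow_succ, MonObj.comp_mul, ih]

theorem ch_pow {M : Type} [AddCommGroup M] {X : Over S} (x : X ⟶ Red.DS S M) (n : ℕ) (m : Multiplicative M) :
    ch (x ^ n) m = ch x (m ^ n) := by
  induction n with
  | zero => rw [pow_zero, pow_zero, ch_one, map_one]
  | succ n ih => rw [pow_succ, pow_succ, ch_mul, ih, map_mul]

/-- `φ` raises points to the power prescribed by `e`. -/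
def IsPow (e : S → ℕ) {H : Over S} [GrpObj H] (φ : H ⟶ H) : Prop :=
  ∀ (X : Over S) (n : ℕ), (∀ p, e (X.hom p) = n) → ∀ x : X ⟶ H, x ≫ φ = x ^ n

theorem toBC_pow {U : Scheme.{u}} (j : U ⟶ S) {X : Over U} {G : Over S} [GrpObj G]
    (a : (Over.map j).obj X ⟶ G) (n : ℕ) : toBC j (a ^ n) = toBC j a ^ n := by
  induction n with
  | zero => rw [pow_zero, pow_zero, MTKernel.toBC_one]
  | succ n ih => rw [pow_succ, pow_succ, toBC_mul, ih]

theorem isPow_bc {e : S → ℕ} {H : Over S} [GrpObj H] {φ : H ⟶ H} (h : IsPow e φ) {U : Scheme.{u}} (g : U ⟶ S) :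
    IsPow (fun p => e (g p)) ((Over.pullback g).map φ) := by
  intro X n hn x
  obtain ⟨a, rfl⟩ := exists_toBC' g x
  rw [← toBC_comp, h ((Over.map g).obj X) n hn a, toBC_pow]

/-- The power map of a locally constant exponent. -/
theorem exists_pow {H : Over S} [GrpObj H] (hH : SGA3x.IsMultTypeFT H) (e : S → ℕ)
    (he : ∀ n, IsOpen {s | e s = n}) : ∃ φ : H ⟶ H, IsMonHom φ ∧ IsPow e φ := by
  let U : S → S.Opens := fun s => ⟨{t | e t = e s}, he _⟩
  have hcomm := locally_of_isMultTypeFT' H hH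
  let c : ∀ s, LocMap H H (U s) := fun s =>
    { app := fun X _ x => x ^ e s
      natural := fun a _ _ x => (comp_pow_pre a x _).symm
      mul := fun X _ x y => Commute.mul_pow (comm_points_scheme H hcomm x y) _ }
  obtain ⟨φ, hφ, hpow⟩ := exists_glue_locMap U (fun _ => rfl) c fun s s' X h h' x => by
    rcases isEmpty_or_nonempty X.left with hX | ⟨⟨p⟩⟩
    · exact Over.OverMorphism.ext ((isInitialOfIsEmpty (X := X.left)).hom_ext _ _)
    · show x ^ e s = x ^ e s'
      rw [← (h ⟨p, rfl⟩ : e (X.hom p) = e s), ← (h' ⟨p, rfl⟩ : e (X.hom p) = e s')]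
  refine ⟨φ, hφ, fun X n hn x => hom_ext_local _ _ fun p => ⟨U (X.hom p), rfl, fun Y a hY => ?_⟩⟩
  rw [← Category.assoc, hpow _ Y hY, comp_pow_pre]
  show (a ≫ x) ^ e (X.hom p) = _
  rw [hn p]

/-- Factorisations through a monomorphism glue. -/
theorem factor_local {X A B : Over S} (m : A ⟶ B) [Mono m] (x : X ⟶ B)
    (h : ∀ p : X.left, ∃ O : X.left.Opens, p ∈ O ∧
      ∃ y : Over.mk (O.ι ≫ X.hom) ⟶ A, y ≫ m = Over.homMk (U := Over.mk (O.ι ≫ X.hom)) O.ι rfl ≫ x) :
    ∃ y : X ⟶ A, y ≫ m = x := by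
  choose O hO y hy using h
  let 𝒰 := Scheme.openCoverOfIsOpenCover X.left O
    (TopologicalSpace.IsOpenCover.mk (eq_top_iff.2 fun p _ => TopologicalSpace.Opens.mem_iSup.2 ⟨p, hO p⟩))
  have hcompat : ∀ a b, pullback.fst (𝒰.f a) (𝒰.f b) ≫ (y a).left = pullback.snd (𝒰.f a) (𝒰.f b) ≫ (y b).left := by
    intro a b
    let P : Over S := Over.mk (pullback.fst (𝒰.f a) (𝒰.f b) ≫ (O a).ι ≫ X.hom)
    let pa : P ⟶ Over.mk ((O a).ι ≫ X.hom) := Over.homMk (pullback.fst (𝒰.f a) (𝒰.f b)) rfl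
    let pb : P ⟶ Over.mk ((O b).ι ≫ X.hom) := Over.homMk (pullback.snd (𝒰.f a) (𝒰.f b)) (by
      show pullback.snd (𝒰.f a) (𝒰.f b) ≫ 𝒰.f b ≫ X.hom = pullback.fst (𝒰.f a) (𝒰.f b) ≫ 𝒰.f a ≫ X.hom
      rw [pullback.condition_assoc])
    have h : pa ≫ y a = pb ≫ y b := by
      rw [← cancel_mono m, Category.assoc, Category.assoc, hy, hy, ← Category.assoc, ← Category.assoc]
      congr 1
      exact Over.OverMorphism.ext pullback.condition
    exact congrArg (fun k => Over.Hom.left k) h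
  let g := 𝒰.glueMorphisms (fun z => (y z).left) hcompat
  let y' : X ⟶ A := Over.homMk g (by
    refine Scheme.Cover.hom_ext 𝒰 _ _ fun z => ?_
    rw [Scheme.Cover.ι_glueMorphisms_assoc]
    exact Over.w (y z))
  refine ⟨y', Over.OverMorphism.ext (Scheme.Cover.hom_ext 𝒰 _ _ fun z => ?_)⟩
  show 𝒰.f z ≫ g ≫ m.left = _
  rw [Scheme.Cover.ι_glueMorphisms_assoc]
  exact congrArg (fun k => Over.Hom.left k) (hy z)

/-- Points of a split torus are powers after a covering. -/
theorem exists_root {U : Scheme.{u}} {R : Over U} [GrpObj R] {r : ℕ} (hR : Red.IsSplitTorusWith (Fin r → ℤ) R)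
    {n : ℕ} (hn : 0 < n) {X : Over U} (x : X ⟶ R) :
    ∃ (X' : Over U) (c : X' ⟶ X) (y : X' ⟶ R), CoverMap.Covers c.left ∧ y ^ n = c ≫ x := by
  obtain ⟨d⟩ := hR
  let i : R ≅ Red.DS U (Fin r → ℤ) := (Grp.forget _).mapIso d
  haveI : IsMonHom i.inv := d.inv.hom.isMonHom_hom
  let θ : (Fin r → ℤ) →+ (Fin r → ℤ) := nsmulAddMonoidHom n
  have hθ : Function.Injective θ := nsmul_right_injective hn.ne'
  let w : Red.DS U (Fin r → ℤ) ⟶ Red.DS U (Fin r → ℤ) := Red.DSmap U θ
  have hw : CoverMap.Covers w.left := covers_DSmap θ hθ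
  let X' : Over U := Over.mk (pullback.fst (x ≫ i.hom).left w.left ≫ X.hom)
  let c : X' ⟶ X := Over.homMk (pullback.fst (x ≫ i.hom).left w.left) rfl
  let z : X' ⟶ Red.DS U (Fin r → ℤ) := Over.homMk (pullback.snd (x ≫ i.hom).left w.left) (by
    show pullback.snd (x ≫ i.hom).left w.left ≫ (Red.DS U (Fin r → ℤ)).hom = pullback.fst _ _ ≫ X.hom
    rw [← Over.w w, ← pullback.condition_assoc, Over.w (x ≫ i.hom)])
  have hz : z ^ n = c ≫ x ≫ i.hom := by
    have h1 : c ≫ x ≫ i.hom = z ≫ w := Over.OverMorphism.ext pullback.condition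
    rw [h1]
    refine ch_ext fun m => ?_
    rw [ch_pow, ch_DSmap]
    rfl
  exact ⟨X', c, z ≫ i.inv, hw.of_isPullback (IsPullback.of_hasPullback (x ≫ i.hom).left w.left), by
    rw [← comp_pow_hom i.inv z n, hz, Category.assoc, Category.assoc, i.hom_inv_id, Category.comp_id]⟩

/-- A homomorphism from a torus factors through the image of the power map. -/
theorem factor_of_torus {e : S → ℕ} (hpos : ∀ s, 0 < e s) (he : ∀ n, IsOpen {s | e s = n}) {H Q : Over S}
    [GrpObj H] {φ : H ⟶ H} (hφ : IsPow e φ) (q : H ⟶ Q) (m : Q ⟶ H) [Mono m] (hqm : q ≫ m = φ)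
    {R : Over S} [GrpObj R] (hR : Red.IsTorus R) (j : R ⟶ H) [IsMonHom j] : ∃ y : R ⟶ Q, y ≫ m = j := by
  obtain ⟨S', f, hf, hfs, hlift, hloc⟩ := hR
  have hcov : CoverMap.Covers f :=
    CoverMap.covers_of_hcov ⟨S', f, 𝟙 _, Category.id_comp _, hfs, hf, hlift⟩
  let R' : Over S := Over.mk (pullback.fst R.hom f ≫ R.hom)
  let pr : R' ⟶ R := Over.homMk (pullback.fst R.hom f) rfl
  have hpr : CoverMap.Covers pr.left := hcov.of_isPullback (IsPullback.of_hasPullback R.hom f)
  suffices h : ∃ y : R' ⟶ Q, y ≫ m = pr ≫ j by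
    obtain ⟨y, hy⟩ := h
    obtain ⟨y₀, hy₀, -⟩ := CoverMap.existsUnique_fac hpr y fun T a b hab => by
      rw [← cancel_mono m, Category.assoc, Category.assoc, hy, reassoc_of% hab]
    haveI := CoverMap.epi_over hpr
    exact ⟨y₀, by rw [← cancel_epi pr, reassoc_of% hy₀, hy]⟩
  refine factor_local m _ fun p => ?_
  let t := pullback.snd R.hom f p
  obtain ⟨U, hU, r, hsplit⟩ := hloc t
  let V : S'.Opens := U ⊓ f ⁻¹ᵁ ⟨{s | e s = e (f t)}, he _⟩
  have hsV : Red.IsSplitTorusWith (Fin r → ℤ) (Red.bc (V.ι ≫ f) R) := by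
    have h := nonempty_bc_split hsplit (S'.homOfLE (inf_le_left : V ≤ U))
    rwa [← Category.assoc, Scheme.homOfLE_ι] at h
  let O : R'.left.Opens := pullback.snd R.hom f ⁻¹ᵁ V
  refine ⟨O, ⟨hU, rfl⟩, ?_⟩
  let g : (V : Scheme.{u}) ⟶ S := V.ι ≫ f
  let Z : Over S := Over.mk (O.ι ≫ R'.hom)
  let l : Z.left ⟶ (V : Scheme.{u}) := IsOpenImmersion.lift V.ι (O.ι ≫ pullback.snd R.hom f) (by
    rw [Scheme.Opens.range_ι]
    rintro _ ⟨q, rfl⟩
    exact q.2)
  have hl : l ≫ g = Z.hom := by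
    show l ≫ V.ι ≫ f = O.ι ≫ pullback.fst R.hom f ≫ R.hom
    rw [IsOpenImmersion.lift_fac_assoc, Category.assoc, pullback.condition]
  let iz : (Over.map g).obj (Over.mk l) ≅ Z := Over.isoMk (Iso.refl _) (by simp [hl])
  let x : Z ⟶ R := Over.homMk (U := Z) (V := R') O.ι rfl ≫ pr
  obtain ⟨Y, c, y, hc, hy⟩ := exists_root hsV (hpos (f t)) (toBC g (iz.hom ≫ x))
  obtain ⟨a, rfl⟩ := exists_toBC' g y
  let c' : (Over.map g).obj Y ⟶ Z := (Over.map g).map c ≫ iz.hom
  have hc' : CoverMap.Covers c'.left := by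
    have h1 : c'.left = c.left := Category.comp_id _
    rw [h1]
    exact hc
  have hroot : a ^ e (f t) = c' ≫ x := by
    apply toBC_inj g
    rw [toBC_pow, hy]
    show c ≫ toBC g (iz.hom ≫ x) = toBC g (((Over.map g).map c ≫ iz.hom) ≫ x)
    rw [Category.assoc]
    exact ((Over.mapPullbackAdj g).homEquiv_naturality_left c _).symm
  have hn : ∀ w, e (((Over.map g).obj Y).hom w) = e (f t) := fun w => (Y.hom w).2.2
  have hfac : ((a ≫ j) ≫ q) ≫ m = c' ≫ x ≫ j := by
    rw [Category.assoc, hqm, hφ _ _ hn, ← comp_pow_hom, hroot, Category.assoc]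
  obtain ⟨b, hfac⟩ : ∃ b, b ≫ m = c' ≫ x ≫ j := ⟨_, hfac⟩
  obtain ⟨y₀, hy₀, -⟩ := CoverMap.existsUnique_fac hc' b fun T u v huv => by
    rw [← cancel_mono m, Category.assoc, Category.assoc, hfac, reassoc_of% huv]
  haveI := CoverMap.epi_over hc'
  refine ⟨y₀, ?_⟩
  rw [← cancel_epi c', reassoc_of% hy₀, hfac]
  simp only [x, Category.assoc]

/-- The least exponent killing the torsion. -/
def tors (M : Type) [AddCommGroup M] : ℕ := sInf {k | 0 < k ∧ ∀ m : M, IsOfFinAddOrder m → k • m = 0}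

theorem tors_spec (M : Type) [AddCommGroup M] [hM : AddGroup.FG M] :
    0 < tors M ∧ ∀ m : M, IsOfFinAddOrder m → tors M • m = 0 := by
  refine Nat.sInf_mem (s := {k | 0 < k ∧ ∀ m : M, IsOfFinAddOrder m → k • m = 0}) ?_
  haveI : Module.Finite ℤ M := Module.Finite.iff_addGroup_fg.2 hM
  haveI : AddGroup.FG (AddCommGroup.torsion M) := Module.Finite.iff_addGroup_fg.1
    (inferInstanceAs (Module.Finite ℤ (AddCommGroup.torsion M).toIntSubmodule))
  haveI : Finite (AddCommGroup.torsion M) := AddCommGroup.finite_of_fg_isAddTorsion _ fun x => AddSubmonoid.isOfFinAddOrder_coe.1 x.2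
  refine ⟨Nat.card (AddCommGroup.torsion M), Nat.card_pos, fun m hm => ?_⟩
  exact congrArg Subtype.val (card_nsmul_eq_zero' (x := (⟨m, hm⟩ : AddCommGroup.torsion M)))

theorem tors_congr {M M' : Type} [AddCommGroup M] [AddCommGroup M'] (σ : M ≃+ M') : tors M = tors M' := by
  unfold tors
  congr 1
  ext k
  refine and_congr_right fun _ => ⟨fun h m hm => ?_, fun h m hm => ?_⟩
  · have := congrArg σ (h (σ.symm m) (σ.symm.toAddMonoidHom.isOfFinAddOrder hm))
    simpa using this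
  · apply σ.injective
    rw [map_nsmul, map_zero]
    exact h _ (σ.toAddMonoidHom.isOfFinAddOrder hm)

/-- Over a field the character group is determined. -/
theorem nonempty_addEquiv_of_iso {X : Scheme.{u}} [Subsingleton X] [Nonempty X] {M M' : Type} [AddCommGroup M]
    [AddCommGroup M'] [AddGroup.FG M] [AddGroup.FG M'] (ε : Grp.mk (Red.DS X M) ≅ Grp.mk (Red.DS X M')) :
    Nonempty (M ≃+ M') := by
  obtain ⟨x⟩ := (inferInstance : Nonempty X)
  let i : Red.DS X M ≅ Red.DS X M' := (Grp.forget _).mapIso ε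
  haveI : IsMonHom i.hom := ε.hom.hom.isMonHom_hom
  haveI : IsMonHom i.inv := ε.inv.hom.isMonHom_hom
  obtain ⟨V, θ, hV, h⟩ := exists_local_DSmap i.hom x
  obtain ⟨V', θ', hV', h'⟩ := exists_local_DSmap i.inv x
  have hr : ∀ (V : X.Opens), x ∈ V → ∀ (Y : Over X), Set.range Y.hom ⊆ (V : Set X) := fun V hV Y a _ =>
    Subsingleton.elim x a ▸ hV
  refine ⟨{ toFun := θ', invFun := θ, map_add' := map_add θ', left_inv := fun z => ?_, right_inv := fun z => ?_ }⟩
  · have h1 : θ.comp θ' = AddMonoidHom.id M := eq_of_DSmap (V := V) hV _ _ fun Y _ y => by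
      rw [← DSmap_comp, DSmap_id, Category.comp_id, ← Category.assoc, ← h Y (hr V hV Y), ← h' Y (hr V' hV' Y),
        Category.assoc, i.hom_inv_id, Category.comp_id]
    exact DFunLike.congr_fun h1 z
  · have h1 : θ'.comp θ = AddMonoidHom.id M' := eq_of_DSmap (V := V) hV _ _ fun Y _ y => by
      rw [← DSmap_comp, DSmap_id, Category.comp_id, ← Category.assoc, ← h' Y (hr V' hV' Y), ← h Y (hr V hV Y),
        Category.assoc, i.inv_hom_id, Category.comp_id]
    exact DFunLike.congr_fun h1 z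

variable {H : Over S} [GrpObj H]

/-- A locally constant exponent adapted to charts. -/
theorem exists_exponent (hH : SGA3x.IsMultTypeFT H) :
    ∃ e : S → ℕ, (∀ s, 0 < e s) ∧ (∀ n, IsOpen {s | e s = n}) ∧
      ∃ (S' : Scheme.{u}) (f : S' ⟶ S), Flat f ∧ Surjective f ∧
        (∀ V : S.Opens, IsAffineOpen V → ∃ W : S'.Opens, IsCompact (W : Set S') ∧ f.base '' (W : Set S') = (V : Set S)) ∧
        ∀ s' : S', ∃ U : S'.Opens, s' ∈ U ∧ ∃ (M : Type) (_ : AddCommGroup M), AddGroup.FG M ∧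
          Nonempty (Grp.mk (Red.bc (U.ι ≫ f) H) ≅ Grp.mk (Red.DS (U : Scheme.{u}) M)) ∧
          (∀ p ∈ U, e (f p) = tors M) := by
  obtain ⟨S', f, hf, hfs, hlift, hloc⟩ := hH
  choose U hU M _ hM hsplit using hloc
  have heq : ∀ (a b : S') (K : Type u) [Field K] (la lb : Spec (CommRingCat.of K) ⟶ S'),
      Set.range la ⊆ (U a : Set S') → Set.range lb ⊆ (U b : Set S') → la ≫ f = lb ≫ f → tors (M a) = tors (M b) := by
    intro a b K _ la lb ha hb hab
    haveI : Subsingleton (Spec (CommRingCat.of K)) := inferInstanceAs (Subsingleton (PrimeSpectrum K))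
    haveI : Nonempty (Spec (CommRingCat.of K)) := inferInstanceAs (Nonempty (PrimeSpectrum K))
    haveI := hM a; haveI := hM b
    have h1 := nonempty_bc_split (hsplit a) (IsOpenImmersion.lift (U a).ι la (ha.trans_eq (Scheme.Opens.range_ι _).symm))
    have h2 := nonempty_bc_split (hsplit b) (IsOpenImmersion.lift (U b).ι lb (hb.trans_eq (Scheme.Opens.range_ι _).symm))
    rw [← Category.assoc, IsOpenImmersion.lift_fac] at h1 h2
    rw [hab] at h1
    obtain ⟨σ⟩ := nonempty_addEquiv_of_iso (h1.some.symm ≪≫ h2.some)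
    exact tors_congr σ
  have hconst : ∀ a b : S', f a = f b → tors (M a) = tors (M b) := by
    intro a b hab
    obtain ⟨z, hza, hzb⟩ := Scheme.Pullback.exists_preimage_pullback (f := f) (g := f) a b hab
    let k := (pullback f f).fromSpecResidueField z
    have h1 : Set.range (k ≫ pullback.fst f f) ⊆ (U a : Set S') := by
      rintro _ ⟨p, rfl⟩
      show pullback.fst f f (k p) ∈ U a
      rw [Scheme.fromSpecResidueField_apply, hza]
      exact hU a
    have h2 : Set.range (k ≫ pullback.snd f f) ⊆ (U b : Set S') := by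
      rintro _ ⟨p, rfl⟩
      show pullback.snd f f (k p) ∈ U b
      rw [Scheme.fromSpecResidueField_apply, hzb]
      exact hU b
    exact heq a b _ _ _ h1 h2 (by rw [Category.assoc, Category.assoc, pullback.condition])
  have hnear : ∀ a b : S', b ∈ U a → tors (M b) = tors (M a) := by
    intro a b hb
    have hr : ∀ c, b ∈ U c → Set.range (S'.fromSpecResidueField b) ⊆ (U c : Set S') := by
      rintro c hc _ ⟨p, rfl⟩
      rw [Scheme.fromSpecResidueField_apply]
      exact hc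
    exact heq b a _ _ _ (hr b (hU b)) (hr a hb) rfl
  let e : S → ℕ := fun s => tors (M (f.surjective s).choose)
  have he : ∀ s', e (f s') = tors (M s') := fun s' => hconst _ _ (f.surjective (f s')).choose_spec
  refine ⟨e, fun s => ?_, fun N₀ => ?_, S', f, hf, hfs, hlift, fun s' =>
    ⟨U s', hU s', M s', inferInstance, hM s', hsplit s', fun p hp => by rw [he, hnear _ _ hp]⟩⟩
  · haveI := hM (f.surjective s).choose
    exact (tors_spec _).1
  refine isOpen_iff_forall_mem_open.2 fun s hs => ?_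
  obtain ⟨V, hV, hsV, -⟩ := exists_isAffineOpen_mem_and_subset (X := S) (x := s) (U := ⊤) trivial
  obtain ⟨Wc, hWc, hWV⟩ := hlift V hV
  have hle : Wc ≤ f ⁻¹ᵁ V := fun w hw => hWV.subset ⟨w, hw, rfl⟩
  let g : (Wc : Scheme.{u}) ⟶ (V : Scheme.{u}) := f.resLE V Wc hle
  haveI : CompactSpace Wc := isCompact_iff_compactSpace.1 hWc
  haveI : IsAffine (V : Scheme.{u}) := hV
  have hgval : ∀ w, V.ι (g w) = f (Wc.ι w) := fun w => by
    show (g ≫ V.ι) w = _
    rw [Scheme.Hom.resLE_comp_ι]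
    rfl
  haveI : Surjective g := ⟨fun v => by
    obtain ⟨w, hw, hwv⟩ := hWV.ge v.2
    exact ⟨⟨w, hw⟩, Subtype.ext ((hgval ⟨w, hw⟩).trans hwv)⟩⟩
  haveI : Flat g := by
    haveI : Flat (g ≫ V.ι) := by rw [Scheme.Hom.resLE_comp_ι]; infer_instance
    exact MorphismProperty.of_postcomp (W' := @IsOpenImmersion) _ g V.ι inferInstance ‹_›
  haveI : QuasiCompact g := quasiCompact_of_compactSpace g
  let A : Set (V : Scheme.{u}) := {v | e (V.ι v) = N₀}
  have hA : IsOpen A := by
    rw [← (Flat.isQuotientMap_of_surjective g).isOpen_preimage]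
    refine isOpen_iff_forall_mem_open.2 fun w hw => ⟨Wc.ι ⁻¹ᵁ U (Wc.ι w), fun w' hw' => ?_,
      (Wc.ι ⁻¹ᵁ U (Wc.ι w)).isOpen, hU _⟩
    have hw₀ : e (V.ι (g w)) = N₀ := hw
    show e (V.ι (g w')) = N₀
    rw [hgval, he] at hw₀ ⊢
    rw [hnear _ _ hw', hw₀]
  exact ⟨V.ι '' A, by rintro _ ⟨v, hv, rfl⟩; exact hv, V.ι.isOpenEmbedding.isOpenMap _ hA,
    ⟨s, hsV⟩, hs, rfl⟩

/-- The image of a multiplication killing torsion is free. -/
theorem exists_free_range {M : Type} [AddCommGroup M] [hM : AddGroup.FG M] (n : ℕ) (hn : 0 < n)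
    (hkill : ∀ m : M, IsOfFinAddOrder m → n • m = 0) :
    ∃ (r : ℕ) (θ : (Fin r → ℤ) →+ M), Function.Injective θ ∧ ∀ m, (∃ z, θ z = m) ↔ ∃ x, n • x = m := by
  haveI : Module.Finite ℤ M := Module.Finite.iff_addGroup_fg.2 hM
  let L : Submodule ℤ M := LinearMap.range (nsmulAddMonoidHom (α := M) n).toIntLinearMap
  haveI : Module.IsTorsionFree ℤ L := by
    refine Module.isTorsionFree_iff_smul_eq_zero.2 fun k ⟨y, x, hx⟩ h => ?_
    by_contra hne
    push Not at hne
    obtain ⟨hk, hy⟩ := hne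
    have h1 : k • n • x = 0 := by
      have := congrArg Subtype.val h
      change k • y = 0 at this
      rw [← hx] at this
      exact this
    have h2 : IsOfFinAddOrder x := by
      refine isOfFinAddOrder_iff_zsmul_eq_zero.2 ⟨k * n, mul_ne_zero hk (by exact_mod_cast hn.ne'), ?_⟩
      rw [mul_smul, natCast_zsmul]
      exact h1
    exact hy (Subtype.ext (hx.symm.trans (hkill x h2)))
  let b := Module.finBasis ℤ L
  refine ⟨_, (L.subtype.comp b.equivFun.symm.toLinearMap).toAddMonoidHom,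
    Subtype.val_injective.comp b.equivFun.symm.injective, fun m => ⟨?_, ?_⟩⟩
  · rintro ⟨z, rfl⟩
    exact (b.equivFun.symm z).2
  · rintro ⟨x, rfl⟩
    exact ⟨b.equivFun ⟨_, x, rfl⟩, congrArg Subtype.val (b.equivFun.symm_apply_apply _)⟩

/-- Where the relation is that of raising to a power the covering has a split torus as target. -/
theorem split_of_pow {U : Scheme.{u}} {M : Type} [AddCommGroup M] [AddGroup.FG M] {Q : Over U} [GrpObj Q]
    (q : Red.DS U M ⟶ Q) [IsMonHom q] (hq : CoverMap.Covers q.left) (n : ℕ) (hn : 0 < n)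
    (hkill : ∀ m : M, IsOfFinAddOrder m → n • m = 0)
    (h : ∀ (X : Over U) (a b : X ⟶ Red.DS U M), a ≫ q = b ≫ q ↔ a ^ n = b ^ n) :
    ∃ r, Red.IsSplitTorusWith (Fin r → ℤ) Q := by
  obtain ⟨r, θ, hθ, hrange⟩ := exists_free_range n hn hkill
  refine ⟨r, nonempty_iso_DS' θ hθ q hq fun X a b => (h X a b).trans ?_⟩
  constructor
  · intro e
    refine ch_ext fun z => ?_
    obtain ⟨x, hx⟩ := (hrange _).1 ⟨z.toAdd, rfl⟩
    rw [ch_DSmap, ch_DSmap, ← hx, ofAdd_nsmul, ← ch_pow, ← ch_pow, e]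
  · intro e
    refine ch_ext fun m => ?_
    obtain ⟨z, hz⟩ := (hrange _).2 ⟨m.toAdd, rfl⟩
    have h1 := congrArg (fun k => ch k (Multiplicative.ofAdd z)) e
    simp only [ch_DSmap, toAdd_ofAdd, hz, ofAdd_nsmul, ofAdd_toAdd] at h1
    rw [ch_pow, ch_pow, h1]

/-- **S4148.** A group of multiplicative type has a greatest torus, which is maximal. -/
theorem exists_maximal_torus (hH : SGA3x.IsMultTypeFT H) :
    ∃ (T : Over S) (_ : GrpObj T) (i : T ⟶ H), Red.IsMaximalTorus i ∧
      ∀ (R : Over S) [GrpObj R] (j : R ⟶ H) [IsMonHom j] [Mono j], Red.IsTorus R → ∃ f : R ⟶ T, f ≫ i = j := by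
  obtain ⟨e, hpos, hopen, S', f, hf, hfs, hlift, hcharts⟩ := exists_exponent hH
  obtain ⟨φ, hφ, hpow⟩ := exists_pow hH e hopen
  haveI := hφ
  obtain ⟨K, _, k, _, _, hker, hK⟩ := MTKernel.exists_kernel_mt hH hH φ
  haveI := flat_of_isMultTypeFT K hK
  haveI := locallyOfFinitePresentation_of_isMultTypeFT H hH
  obtain ⟨Q, instQ, q, hq, m, hm, hqs, hqf, hqp, -, hmono, hqm, -⟩ :=
    MonoFactor.exists_quotient_kernel φ (Or.inl inferInstance) k hker
  haveI := hq; haveI := hm; haveI := hmono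
  have hcov : CoverMap.Covers q.left :=
    ⟨H.left, q.left, 𝟙 _, Scheme.fppfPrecoverage_le_fpqcPrecoverage _ q.left.singleton_mem_fppfPrecoverage,
      Category.id_comp _⟩
  have hT : Red.IsTorus Q := by
    refine ⟨S', f, hf, hfs, hlift, fun s' => ?_⟩
    obtain ⟨U, hU, M, _, hM, ⟨d⟩, hconst⟩ := hcharts s'
    haveI := hM
    let g : (U : Scheme.{u}) ⟶ S := U.ι ≫ f
    let i : Red.bc g H ≅ Red.DS U M := (Grp.forget _).mapIso d
    haveI : IsMonHom i.inv := d.inv.hom.isMonHom_hom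
    haveI : IsMonHom i.hom := d.hom.hom.isMonHom_hom
    haveI := mono_bc g m
    have hcov' : CoverMap.Covers (i.inv ≫ (Over.pullback g).map q).left := by
      obtain ⟨Z, z, y, hz, hy⟩ := covers_bc g q hcov
      exact ⟨Z, z, y ≫ i.hom.left, hz, by
        rw [Category.assoc, ← Over.comp_left, i.hom_inv_id_assoc, hy]⟩
    refine ⟨U, hU, split_of_pow (Q := Red.bc g Q) (i.inv ≫ (Over.pullback g).map q) hcov' (tors M)
      (tors_spec M).1 (tors_spec M).2 fun X a b => ?_⟩
    have key : ∀ x : X ⟶ Red.DS U M, (x ≫ i.inv ≫ (Over.pullback g).map q) ≫ (Over.pullback g).map m =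
        (x ^ tors M) ≫ i.inv := fun x => by
      simp only [Category.assoc, ← Functor.map_comp, hqm]
      rw [← Category.assoc, isPow_bc hpow g X (tors M) (fun p => hconst _ (X.hom p).2), comp_pow_hom i.inv x (tors M)]
    rw [← cancel_mono ((Over.pullback g).map m), key, key, cancel_mono i.inv]
  refine ⟨Q, instQ, m, ⟨hm, hmono, hT, fun s T' _ j _ _ f' hT' hf' => ?_⟩, fun R _ j _ _ hR =>
    factor_of_torus hpos hopen hpow q m hqm hR j⟩
  let g := Red.geomPt s
  haveI : Subsingleton (Spec (CommRingCat.of (AlgebraicClosure (S.residueField s)))) :=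
    inferInstanceAs (Subsingleton (PrimeSpectrum (AlgebraicClosure (S.residueField s))))
  haveI := mono_bc g m
  obtain ⟨l, hl⟩ := factor_of_torus (e := fun p => e (g p)) (fun p => hpos _)
    (fun n => IsOpen.preimage g.continuous (hopen n)) (isPow_bc hpow g) ((Over.pullback g).map q)
    ((Over.pullback g).map m) (by rw [← Functor.map_comp, hqm]) hT' j
  exact ⟨l, by rw [← cancel_mono ((Over.pullback g).map m), Category.assoc, hl, hf', Category.id_comp],
    by rw [← cancel_mono j, Category.assoc, hf', hl, Category.id_comp]⟩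

end Groth.Agent.MTTorus
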